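import Cfsg.Agent.H651.Two.Row
import Cfsg.Agent.H593.IMSporTwo
import Cfsg.Agent.H678.DG.McL

/-!
# `McL`: two characters of degree divisible by `p` (helper174)

Degrees 3520, 4500, 5103 (helper678), 22, 252 (helper713).
-/

set_option autoImplicit false

open Cfsg Subgroup

namespace Cfsg.Agent.H174.Two.McL

open Cfsg.Agent.H651.Two Cfsg.Agent.Characters.Core Cfsg.Agent.H596.OneFacts
open Cfsg.Agent.H904.McLCent Cfsg.Agent.McLType.X275 Cfsg.Agent.McLType.Gens
open Cfsg.Agent.H593.IMSpor (exists_degree_of_equiv mcl_252)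

universe u

/-- The degree 22. -/
theorem mcl_22 {S : Type u} [Group S] (h : Spor.IsoMcL S) :
    ∃ χ : IrrCharacter S, charDegree (χ : S → ℂ) = 22 := by
  obtain ⟨e⟩ := h
  refine exists_degree_of_equiv (e.trans Cfsg.Agent.H713.Spor.McL.mclEquiv) ?_
  obtain ⟨hs, hc⟩ := Cfsg.Agent.H713.Spor.McL.facts
  have : Finite ↥(Cfsg.Agent.SporadicRecognition.HSRank.K (-Spor.leechV) Spor.leechU) :=
    Nat.finite_of_card_ne_zero (by rw [hc]; norm_num)
  obtain ⟨μ, -, hμ⟩ := Cfsg.Agent.H713.Spor.McL.exists_22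
  have := Cfsg.Agent.H713.Spor.HS.degree_of_lchi hμ
  exact ⟨μ, by omega⟩

/-- The degrees of helper678. -/
theorem mcl_deg {S : Type u} [Group S] (h : Spor.IsoMcL S) :
    (∃ χ : IrrCharacter S, charDegree (χ : S → ℂ) = 3520) ∧
    (∃ χ : IrrCharacter S, charDegree (χ : S → ℂ) = 4500) ∧
    (∃ χ : IrrCharacter S, charDegree (χ : S → ℂ) = 5103) := by
  obtain ⟨θ, R⟩ := exists_rep h
  let f : S ≃* K0 := (MonoidHom.ofInjective R.inj).trans (MulEquiv.subgroupCongr R.range)
  exact ⟨exists_degree_of_equiv f H678.DG.McLDeg.deg_3520, exists_degree_of_equiv f H678.DG.McLDeg.deg_4500,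
    exists_degree_of_equiv f H678.DG.McLDeg.deg_5103⟩

/-- **The row `McL`.** -/
theorem two_mcl {S : Type u} [Group S] (h : Spor.IsoMcL S) {p : ℕ} [hp : Fact p.Prime]
    (hd : p ∣ Nat.card S) : TwoOr p S := by
  rw [Cfsg.Agent.NotCT.Orders.mcl h] at hd
  have h0 := prime_mem hp.out (L := [(11, 1), (7, 1), (5, 3), (3, 6), (2, 7)]) (by norm_num) (N := 898128000)
    (by decide +kernel) hd
  simp only [List.map_cons, List.map_nil, List.mem_cons, List.not_mem_nil, or_false] at h0
  obtain ⟨h1, h2, h3⟩ := mcl_deg h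
  rcases h0 with rfl | rfl | rfl | rfl | rfl
  · exact .inl (two_of_degs (mcl_22 h) h1 (by norm_num) (by norm_num) (by norm_num))
  · exact .inl (two_of_degs (mcl_252 h) h3 (by norm_num) (by norm_num) (by norm_num))
  · exact .inl (two_of_degs h1 h2 (by norm_num) (by norm_num) (by norm_num))
  · exact .inl (two_of_degs h2 h3 (by norm_num) (by norm_num) (by norm_num))
  · exact .inl (two_of_degs h1 h2 (by norm_num) (by norm_num) (by norm_num))

end Cfsg.Agent.H174.Two.McL
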